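import Groth.Agent.NormY57.Algebra
import Groth.Agent.NagaNorm57.Codim1
import Groth.Agent.Norm57.Universal
import Groth.Agent.Props58.Comp
import Groth.Agent.S2102
import Mathlib.Topology.Compactness.LocallyFinite

/-! Normalization in a normal scheme with locally finitely many components. -/

set_option autoImplicit false
set_option backward.isDefEq.respectTransparency.types false
set_option linter.style.haveILetI false
universe u

open CategoryTheory AlgebraicGeometry TopologicalSpace Opposite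

namespace Groth.Agent.NormY57

open Norm57 (IsMax' isMax'_iff exists_isMax'_specializes exists_isMax'_preimage)

variable {X Y : Scheme.{u}}

theorem isReduced_of_isNormalScheme (hY : Pi1.IsNormalScheme Y) : IsReduced Y :=
  haveI : ∀ y : Y, _root_.IsReduced (Y.presheaf.stalk y) := fun y => by
    haveI := (hY y).1
    infer_instance
  isReduced_of_isReduced_stalk Y

/-- Maximal generizations are unique on a normal scheme. -/
theorem eq_of_isMax' (hY : Pi1.IsNormalScheme Y) {y a b : Y} (ha : IsMax' a) (hb : IsMax' b)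
    (hay : a ⤳ y) (hby : b ⤳ y) : a = b := by
  have h : closure {a} = closure {b} :=
    Props58.eq_of_isDomain_stalk y (hY y).1 _ (isMax'_iff.mp ha) _ (isMax'_iff.mp hb) hay.mem_closure hby.mem_closure
  exact ha b (specializes_iff_mem_closure.mpr (h ▸ subset_closure rfl)) ▸ rfl

/-- The components of a normal scheme with locally finitely many components are open. -/
theorem isOpen_component (hY : Pi1.IsNormalScheme Y)
    (hfin : LocallyFinite (fun Z : ↥(irreducibleComponents ↥Y) => (Z : Set ↥Y)))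
    {Z : Set Y} (hZ : Z ∈ irreducibleComponents Y) : IsOpen Z := by
  have h : Zᶜ = ⋃ Z' : {W : ↥(irreducibleComponents ↥Y) // (W : Set Y) ≠ Z}, (Z'.1 : Set Y) := by
    ext y
    refine ⟨fun hy => Set.mem_iUnion.mpr ?_, ?_⟩
    · refine ⟨⟨⟨_, irreducibleComponent_mem_irreducibleComponents y⟩, fun h => hy ?_⟩,
        mem_irreducibleComponent⟩
      exact h ▸ mem_irreducibleComponent
    · rintro hy hyZ
      obtain ⟨Z', hyZ'⟩ := Set.mem_iUnion.mp hy
      exact Z'.2 (Props58.eq_of_isDomain_stalk y (hY y).1 _ Z'.1.2 _ hZ hyZ' hyZ)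
  rw [← isClosed_compl_iff, h]
  exact (hfin.comp_injective Subtype.val_injective).isClosed_iUnion
    fun i => isClosed_of_mem_irreducibleComponents _ i.1.2

/-- Gluing on two disjoint opens. -/
theorem exists_extend (O W C : Y.Opens) (hW : W ≤ O) (hC : C ≤ O) (hcov : O ≤ W ⊔ C)
    (hdisj : W ⊓ C = ⊥) (d : Γ(Y, W)) :
    ∃ b : Γ(Y, O), Y.presheaf.map (homOfLE hW).op b = d ∧ Y.presheaf.map (homOfLE hC).op b = 0 := by
  let U : ULift.{u} Bool → Y.Opens := fun i => if i.down then W else C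
  let sf : ∀ i, Γ(Y, U i) := fun i => match i with
    | ⟨true⟩ => d
    | ⟨false⟩ => (0 : Γ(Y, C))
  have hsub : ∀ V : Y.Opens, V = ⊥ → ∀ a b : Γ(Y, V), a = b := fun V hV a b => by
    subst hV
    exact Subsingleton.elim a b
  obtain ⟨b, hb, -⟩ := Y.sheaf.existsUnique_gluing' U O
    (fun i => match i with | ⟨true⟩ => homOfLE hW | ⟨false⟩ => homOfLE hC)
    (hcov.trans (sup_le (le_iSup U ⟨true⟩) (le_iSup U ⟨false⟩))) sf fun i j => by
      match i, j with
      | ⟨true⟩, ⟨true⟩ => rfl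
      | ⟨false⟩, ⟨false⟩ => rfl
      | ⟨true⟩, ⟨false⟩ => exact hsub _ hdisj _ _
      | ⟨false⟩, ⟨true⟩ => exact hsub _ ((inf_comm C W).trans hdisj) _ _
  exact ⟨b, hb ⟨true⟩, hb ⟨false⟩⟩

variable (f : Y ⟶ X) [QuasiCompact f] [QuasiSeparated f]

/-- For a component through `y` over an affine, an idempotent of the normalization separating it. -/
theorem exists_idempotent (hY : Pi1.IsNormalScheme Y)
    (hfin : LocallyFinite (fun Z : ↥(irreducibleComponents ↥Y) => (Z : Set ↥Y)))
    {U : X.Opens} (hU : IsAffineOpen U) (y : Y) (hy : IsMax' y) (hyU : y ∈ f ⁻¹ᵁ U)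
    (hle : f ⁻¹ᵁ U ≤ f.toNormalization ⁻¹ᵁ f.fromNormalization ⁻¹ᵁ U) :
    ∃ (e : Γ(f.normalization, f.fromNormalization ⁻¹ᵁ U)) (D : Type u) (_ : CommRing D)
      (_ : IsDomain D) (_ : IsIntegrallyClosed D)
      (ψ : Γ(f.normalization, f.fromNormalization ⁻¹ᵁ U) →+* D),
      IsIdempotentElem e ∧ y ∈ Y.basicOpen (f.toNormalization.appLE _ _ hle e) ∧
      (∀ z : Y, z ∈ Y.basicOpen (f.toNormalization.appLE _ _ hle e) → y ⤳ z) ∧
      (∀ d, ψ.IsIntegralElem d → d ∈ ψ.range) ∧ (∀ r, ψ r = 0 → e * r = 0) := by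
  obtain ⟨hinj, hcl⟩ := NagaNorm57.toNormalization_appLE f hU hle
  set φ := (f.toNormalization.appLE (f.fromNormalization ⁻¹ᵁ U) (f ⁻¹ᵁ U) hle).hom
  let Z : Y.Opens := ⟨closure {y}, isOpen_component hY hfin (isMax'_iff.mp hy)⟩
  let W : Y.Opens := Z ⊓ f ⁻¹ᵁ U
  let C : Y.Opens := ⟨(closure {y})ᶜ, isClosed_closure.isOpen_compl⟩ ⊓ f ⁻¹ᵁ U
  have hW : W ≤ f ⁻¹ᵁ U := inf_le_right
  have hC : C ≤ f ⁻¹ᵁ U := inf_le_right
  have hcov : f ⁻¹ᵁ U ≤ W ⊔ C := fun z hz => by
    by_cases h : z ∈ closure ({y} : Set Y)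
    · exact Or.inl ⟨h, hz⟩
    · exact Or.inr ⟨h, hz⟩
  have hdisj : W ⊓ C = ⊥ := eq_bot_iff.mpr fun z hz => hz.2.1 hz.1.1
  have hyW : y ∈ W := ⟨subset_closure rfl, hyU⟩
  haveI : IsIntegral W.toScheme := by
    haveI := isReduced_of_isNormalScheme hY
    haveI : IsReduced W.toScheme := isReduced_of_isOpenImmersion W.ι
    haveI : IrreducibleSpace W.toScheme := (irreducibleSpace_def _).mpr (by
      have he : closure ({⟨y, hyW⟩} : Set W.toScheme) = Set.univ :=
        Set.eq_univ_of_forall fun v => specializes_iff_mem_closure.mp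
          ((W.ι.isEmbedding.isInducing.specializes_iff).mp (specializes_iff_mem_closure.mpr v.2.1))
      rw [Set.top_eq_univ, ← he]
      exact isIrreducible_singleton.closure)
    exact isIntegral_of_irreducibleSpace_of_isReduced _
  haveI := S2102.result W.toScheme (Norm57.isNormalScheme_of_openImmersion W.ι hY)
  let t := W.topIso.commRingCatIsoToRingEquiv
  haveI : IsDomain Γ(Y, W) := t.symm.toMulEquiv.isDomain _
  haveI : IsIntegrallyClosed Γ(Y, W) := IsIntegrallyClosed.of_equiv t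
  let rW := (Y.presheaf.map (homOfLE hW).op).hom
  let rC := (Y.presheaf.map (homOfLE hC).op).hom
  have hext : ∀ a b, rW a = rW b → rC a = rC b → a = b := fun a b h1 h2 =>
    Y.sheaf.eq_of_locally_eq₂ (homOfLE hW) (homOfLE hC) hcov a b h1 h2
  obtain ⟨e', he1, he0⟩ := exists_extend _ W C hW hC hcov hdisj 1
  have he' : e' * e' = e' := hext _ _ (by rw [map_mul]; erw [he1]; rw [one_mul])
    (by rw [map_mul]; erw [he0]; rw [mul_zero])
  obtain ⟨e, he⟩ := hcl e' ⟨Polynomial.X ^ 2 - Polynomial.X, Polynomial.monic_X_pow_sub (lt_of_le_of_lt Polynomial.degree_X_le (by norm_num)),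
    by rw [Polynomial.eval₂_sub, Polynomial.eval₂_X_pow, Polynomial.eval₂_X, sq, he', sub_self]⟩
  have hbasic : ∀ z : Y, z ∈ Y.basicOpen e' ↔ z ∈ W := fun z => by
    refine ⟨fun hz => ?_, fun hz => ?_⟩
    · rcases hcov (Y.basicOpen_le e' hz) with h | h
      · exact h
      · have h0 : z ∈ Y.basicOpen (rC e') := by
          rw [Scheme.basicOpen_res]; exact ⟨h, hz⟩
        erw [he0, Scheme.basicOpen_zero] at h0
        exact h0.elim
    · have h1 : z ∈ Y.basicOpen (rW e') := by
        erw [he1, Scheme.basicOpen_of_isUnit _ isUnit_one]; exact hz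
      rw [Scheme.basicOpen_res] at h1
      exact h1.2
  refine ⟨e, Γ(Y, W), inferInstance, inferInstance, inferInstance, rW.comp φ,
    hinj (by rw [map_mul, he, he']), ?_, ?_, fun d hd => ?_, fun r hr => ?_⟩
  · change y ∈ Y.basicOpen (φ e)
    rw [he]
    exact (hbasic y).mpr hyW
  · intro z hz
    change z ∈ Y.basicOpen (φ e) at hz
    rw [he] at hz
    exact specializes_iff_mem_closure.mpr ((hbasic z).mp hz).1
  · obtain ⟨b, hb1, hb0⟩ := exists_extend _ W C hW hC hcov hdisj d
    obtain ⟨P, hP, hPd⟩ := hd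
    have hint : φ.IsIntegralElem b := ⟨Polynomial.X * P, Polynomial.monic_X.mul hP, by
      rw [Polynomial.eval₂_mul, Polynomial.eval₂_X]
      refine hext _ _ ?_ ?_
      · rw [map_mul, map_zero, Polynomial.hom_eval₂]
        erw [hb1, hPd, mul_zero]
      · rw [map_mul, map_zero]
        erw [hb0, zero_mul]⟩
    obtain ⟨r, hr⟩ := hcl b hint
    exact ⟨r, by rw [RingHom.comp_apply, hr]; exact hb1⟩
  · refine hinj ?_
    rw [map_mul, map_zero, he]
    refine hext _ _ ?_ ?_
    · rw [map_mul, map_zero]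
      rw [RingHom.comp_apply] at hr
      rw [hr, mul_zero]
    · rw [map_mul, map_zero]
      erw [he0, zero_mul]

/-- An idempotent invertible at a generization is invertible at the point. -/
theorem mem_basicOpen_idempotent {N : Scheme.{u}} (g : Y ⟶ N) {V : N.Opens}
    {O : Y.Opens} (hle : O ≤ g ⁻¹ᵁ V) (e : Γ(N, V)) (he : IsIdempotentElem e) (y : Y)
    (hy : y ∈ Y.basicOpen (g.appLE V O hle e)) (x : N) (hx : x ∈ V) (hyx : g y ⤳ x) :
    x ∈ N.basicOpen e := by
  rw [Scheme.basicOpen_appLE] at hy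
  by_contra hxe
  have hsum : x ∈ N.basicOpen (1 - e) := by
    have h : x ∈ N.basicOpen e ⊔ N.basicOpen (1 - e) := by
      refine le_trans ?_ (N.basicOpen_add_le e (1 - e)) hx
      simp
    exact h.resolve_left hxe
  have h1 : g y ∈ N.basicOpen (1 - e) := hyx.mem_open (N.basicOpen (1 - e)).2 hsum
  have h2 : g y ∈ N.basicOpen (e * (1 - e)) := by
    rw [Scheme.basicOpen_mul]; exact ⟨hy.2, h1⟩
  rw [he.mul_one_sub_self, Scheme.basicOpen_zero] at h2
  exact h2

theorem eq_of_specializes (hY : Pi1.IsNormalScheme Y)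
    (hfin : LocallyFinite (fun Z : ↥(irreducibleComponents ↥Y) => (Z : Set ↥Y)))
    {y₁ y₂ : Y} (h₁ : IsMax' y₁) (h₂ : IsMax' y₂) (x : ↥f.normalization)
    (hx₁ : f.toNormalization y₁ ⤳ x) (hx₂ : f.toNormalization y₂ ⤳ x)
    : y₁ = y₂ := by
  obtain ⟨U, hU, hxU, -⟩ := exists_isAffineOpen_mem_and_subset (x := f.fromNormalization x) (U := ⊤) trivial
  let V := f.fromNormalization ⁻¹ᵁ U
  have hV : IsAffineOpen V := hU.preimage _
  have hpre : f ⁻¹ᵁ U = f.toNormalization ⁻¹ᵁ V := by
    rw [← Scheme.Hom.comp_preimage, f.toNormalization_fromNormalization]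
  have hy : ∀ {y : Y}, f.toNormalization y ⤳ x → y ∈ f ⁻¹ᵁ U := fun hyx => by
    rw [hpre]; exact hyx.mem_open V.2 hxU
  obtain ⟨e, D, _, _, _, ψ, he, hye, hW, -, -⟩ :=
    exists_idempotent f hY hfin hU y₁ h₁ (hy hx₁) hpre.le
  have hxe : x ∈ f.normalization.basicOpen e :=
    mem_basicOpen_idempotent f.toNormalization hpre.le e he y₁ hye x hxU hx₁
  have h2e : y₂ ∈ Y.basicOpen (f.toNormalization.appLE _ _ hpre.le e) := by
    rw [Scheme.basicOpen_appLE]
    exact ⟨hy hx₂, hx₂.mem_open (f.normalization.basicOpen e).2 hxe⟩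
  exact h₂ y₁ (hW y₂ h2e)

theorem isNormalScheme_normalization (hY : Pi1.IsNormalScheme Y)
    (hfin : LocallyFinite (fun Z : ↥(irreducibleComponents ↥Y) => (Z : Set ↥Y))) :
    Pi1.IsNormalScheme f.normalization := fun x => by
  obtain ⟨U, hU, hxU, -⟩ := exists_isAffineOpen_mem_and_subset (x := f.fromNormalization x) (U := ⊤) trivial
  let V := f.fromNormalization ⁻¹ᵁ U
  have hV : IsAffineOpen V := hU.preimage _
  have hpre : f ⁻¹ᵁ U = f.toNormalization ⁻¹ᵁ V := by
    rw [← Scheme.Hom.comp_preimage, f.toNormalization_fromNormalization]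
  obtain ⟨z, hz⟩ := SchBasics.exists_specializes_of_mem_closure_range f.toNormalization (y := x)
    (f.toNormalization.denseRange x)
  obtain ⟨y, hy, hyz⟩ := exists_isMax'_specializes z
  have hyx : f.toNormalization y ⤳ x := (hyz.map f.toNormalization.continuous).trans hz
  have hyU : y ∈ f ⁻¹ᵁ U := by rw [hpre]; exact hyx.mem_open V.2 hxU
  obtain ⟨e, D, _, _, _, ψ, he, hye, -, hψ, hker⟩ :=
    exists_idempotent f hY hfin hU y hy hyU hpre.le
  letI := f.normalization.presheaf.algebra_section_stalk (U := V) ⟨x, hxU⟩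
  haveI : IsLocalization.AtPrime (f.normalization.presheaf.stalk x) (hV.primeIdealOf ⟨x, hxU⟩).asIdeal :=
    hV.isLocalization_stalk ⟨x, hxU⟩
  refine normal_localization ψ hψ (hV.primeIdealOf ⟨x, hxU⟩).asIdeal _ fun r hr => ⟨e, ?_, hker r hr⟩
  have h := mem_basicOpen_idempotent f.toNormalization hpre.le e he y hye x hxU hyx
  rw [show x = hV.fromSpec (hV.primeIdealOf ⟨x, hxU⟩) from (hV.fromSpec_primeIdealOf ⟨x, hxU⟩).symm] at h
  have h' : hV.primeIdealOf ⟨x, hxU⟩ ∈ hV.fromSpec ⁻¹ᵁ f.normalization.basicOpen e := h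
  rw [hV.fromSpec_preimage_basicOpen] at h'
  exact h'

theorem isMax'_toNormalization (hY : Pi1.IsNormalScheme Y)
    (hfin : LocallyFinite (fun Z : ↥(irreducibleComponents ↥Y) => (Z : Set ↥Y)))
    {y : Y} (hy : IsMax' y) : IsMax' (f.toNormalization y) := fun w hw => by
  obtain ⟨m, hm, hmw⟩ := exists_isMax'_specializes w
  obtain ⟨y₂, hy₂, hy₂m⟩ := exists_isMax'_preimage f.toNormalization hm
  have h : f.toNormalization y₂ ⤳ f.toNormalization y := hy₂m ▸ hmw.trans hw
  obtain rfl := eq_of_specializes f hY hfin hy hy₂ _ specializes_rfl h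
  exact (hw.antisymm (hy₂m.symm ▸ hmw)).eq

theorem normalization_of_normal (hY : Pi1.IsNormalScheme Y)
    (hfin : LocallyFinite (fun Z : ↥(irreducibleComponents ↥Y) => (Z : Set ↥Y))) :
    Pi1.IsNormalScheme f.normalization ∧
    LocallyFinite (fun Z : ↥(irreducibleComponents ↥f.normalization) => (Z : Set ↥f.normalization)) ∧
    (∀ y : Y, closure {y} ∈ irreducibleComponents ↥Y →
      closure {f.toNormalization.base y} ∈ irreducibleComponents ↥f.normalization) ∧
    (∀ x' : ↥f.normalization, closure {x'} ∈ irreducibleComponents ↥f.normalization →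
      ∃! y : Y, closure {y} ∈ irreducibleComponents ↥Y ∧ f.toNormalization.base y = x') := by
  refine ⟨isNormalScheme_normalization f hY hfin, fun x => ?_,
    fun y hy => isMax'_iff.mp (isMax'_toNormalization f hY hfin (isMax'_iff.mpr hy)), fun x hx => ?_⟩
  · obtain ⟨U, hU, hxU, -⟩ := exists_isAffineOpen_mem_and_subset (x := f.fromNormalization x) (U := ⊤) trivial
    let V := f.fromNormalization ⁻¹ᵁ U
    refine ⟨V, V.2.mem_nhds hxU, ?_⟩
    have hS : {Z : ↥(irreducibleComponents ↥Y) | ((Z : Set Y) ∩ (f ⁻¹ᵁ U : Set Y)).Nonempty}.Finite :=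
      hfin.finite_nonempty_inter_compact (f.isCompact_preimage hU.isCompact)
    refine ((hS.image fun Z : ↥(irreducibleComponents ↥Y) =>
      closure (f.toNormalization '' (Z : Set Y))).preimage
      Subtype.val_injective.injOn).subset fun Z hZ => ?_
    obtain ⟨z, hzZ, hzV⟩ := hZ
    obtain ⟨m, hm⟩ := QuasiSober.sober Z.2.1 (isClosed_of_mem_irreducibleComponents _ Z.2)
    obtain ⟨y, hy, rfl⟩ := exists_isMax'_preimage f.toNormalization
      (isMax'_iff.mpr (hm.symm ▸ Z.2 : closure {m} ∈ irreducibleComponents ↥f.normalization))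
    have hmV : f.toNormalization y ∈ V := (hm.specializes hzZ).mem_open V.2 hzV
    refine ⟨⟨closure {y}, isMax'_iff.mp hy⟩, ⟨y, subset_closure rfl, ?_⟩, ?_⟩
    · show f y ∈ U
      rw [← f.toNormalization_fromNormalization]
      exact hmV
    · change closure (f.toNormalization '' closure {y}) = (Z : Set _)
      rw [closure_image_closure f.toNormalization.continuous, Set.image_singleton, hm]
  · obtain ⟨y, hy, rfl⟩ := exists_isMax'_preimage f.toNormalization (isMax'_iff.mpr hx)
    refine ⟨y, ⟨isMax'_iff.mp hy, rfl⟩, fun y' ⟨hy', he⟩ => ?_⟩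
    exact (eq_of_specializes f hY hfin hy (isMax'_iff.mpr hy') _ specializes_rfl
      (specializes_of_eq he)).symm

end Groth.Agent.NormY57
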