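import Mathlib.RingTheory.IntegralClosure.IntegrallyClosed
import Mathlib.RingTheory.Localization.AtPrime.Basic
import Mathlib.RingTheory.Localization.Integral
import Mathlib.RingTheory.LocalProperties.IntegrallyClosed

/-! Localizations of a ring with a locally injective map onto an integrally closed subring. -/

set_option autoImplicit false
set_option linter.style.haveILetI false
universe u

namespace Groth.Agent.NormY57

theorem normal_localization {R D : Type u} [CommRing R] [CommRing D] [IsDomain D] [IsIntegrallyClosed D]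
    (ψ : R →+* D) (hψ : ∀ d, ψ.IsIntegralElem d → d ∈ ψ.range) (p : Ideal R) [p.IsPrime]
    (Rp : Type u) [CommRing Rp] [Algebra R Rp] [IsLocalization.AtPrime Rp p]
    (hker : ∀ r, ψ r = 0 → ∃ t ∉ p, t * r = 0) :
    IsDomain Rp ∧ IsIntegrallyClosed Rp := by
  let R' := ψ.range
  let π : R →+* R' := ψ.rangeRestrict
  have hπ : Function.Surjective π := ψ.rangeRestrict_surjective
  have hzero : ∀ r, π r = 0 → algebraMap R Rp r = 0 := fun r hr => by
    obtain ⟨t, ht, htr⟩ := hker r (congrArg Subtype.val hr)
    refine (IsLocalization.map_units Rp (⟨t, ht⟩ : p.primeCompl)).mul_right_eq_zero.mp ?_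
    rw [← map_mul, htr, map_zero]
  have hle : RingHom.ker π ≤ RingHom.ker (algebraMap R Rp) := fun r hr => hzero r hr
  let g : R' →+* Rp := π.liftOfSurjective hπ ⟨algebraMap R Rp, hle⟩
  have hg : ∀ r, g (π r) = algebraMap R Rp r := fun r =>
    RingHom.liftOfRightInverse_comp_apply π _ _ _ r
  letI : Algebra R' Rp := g.toAlgebra
  let M : Submonoid R' := p.primeCompl.map π
  have hM : M ≤ nonZeroDivisors R' := by
    rintro _ ⟨t, ht, rfl⟩
    refine mem_nonZeroDivisors_of_ne_zero fun h => ?_
    obtain ⟨s, hs, hst⟩ := hker t (congrArg Subtype.val h)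
    exact (‹p.IsPrime›.mem_or_mem (hst ▸ p.zero_mem)).elim hs ht
  haveI : IsLocalization M Rp :=
    { map_units := fun y => by
        obtain ⟨y, t, ht, rfl⟩ := y
        change IsUnit (g (π t))
        rw [hg]
        exact IsLocalization.map_units Rp (⟨t, ht⟩ : p.primeCompl)
      surj := fun z => by
        obtain ⟨⟨r, t⟩, h⟩ := IsLocalization.surj p.primeCompl z
        refine ⟨(π r, ⟨π t, t.1, t.2, rfl⟩), ?_⟩
        change z * g (π t) = g (π r)
        rw [hg, hg, h]
      exists_of_eq := fun {x y} h => by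
        obtain ⟨x, rfl⟩ := hπ x
        obtain ⟨y, rfl⟩ := hπ y
        have h' : algebraMap R Rp x = algebraMap R Rp y := (hg x).symm.trans (h.trans (hg y))
        obtain ⟨c, hc⟩ := (IsLocalization.eq_iff_exists p.primeCompl Rp).mp h'
        refine ⟨⟨π c, c.1, c.2, rfl⟩, ?_⟩
        change π c * π x = π c * π y
        rw [← map_mul, ← map_mul, hc] }
  letI : Algebra R' D := R'.subtype.toAlgebra
  haveI : FaithfulSMul R' D := (faithfulSMul_iff_algebraMap_injective _ _).mpr Subtype.val_injective
  haveI : IsIntegrallyClosedIn R' D := isIntegrallyClosedIn_iff.mpr ⟨Subtype.val_injective,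
    fun {x} hx => by
      obtain ⟨P, hP, hx⟩ := hx
      obtain ⟨Q, hQ, -, hQm⟩ := Polynomial.lifts_and_degree_eq_and_monic
        (Polynomial.map_surjective π hπ P : P ∈ Polynomial.lifts π) hP
      refine ⟨⟨x, hψ x ⟨Q, hQm, ?_⟩⟩, rfl⟩
      rw [← hQ, Polynomial.eval₂_map] at hx
      exact hx⟩
  haveI : IsIntegrallyClosed R' := .of_isIntegrallyClosed_of_isIntegrallyClosedIn (S := D) R'
  exact ⟨IsLocalization.isDomain_of_le_nonZeroDivisors Rp hM,
    isIntegrallyClosed_of_isLocalization Rp M hM⟩

end Groth.Agent.NormY57
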